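import Mathlib.RingTheory.Polynomial.Pochhammer
import Mathlib.Algebra.Polynomial.Roots
import Mathlib.Algebra.Order.Floor.Ring
import Mathlib.Data.Rat.Floor
import Mathlib.Algebra.Order.Archimedean.Basic
import Mathlib.RingTheory.Coprime.Lemmas
import Mathlib.Tactic.LinearCombination
import Mathlib.Tactic.FieldSimp

/-!
# Polynomials with integral values
-/

set_option autoImplicit false

open Polynomial

namespace IntPolyLib

theorem exists_int_interp (f : ℕ → ℤ) (g : ℕ) :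
    ∃ T : ℤ[X], T.natDegree ≤ g ∧ (∀ n ≤ g, T.eval (n : ℤ) = g.factorial * f n) ∧
      ∀ n : ℕ, (g.factorial : ℤ) ∣ T.eval (n : ℤ) := by
  induction g with
  | zero => exact ⟨C (f 0), by simp, fun n hn => by simp [Nat.le_zero.mp hn], fun n => by simp⟩
  | succ g ih =>
    obtain ⟨T, hdeg, hval, hdvd⟩ := ih
    obtain ⟨q, hq⟩ := hdvd (g + 1)
    refine ⟨C ((g : ℤ) + 1) * T + C (f (g + 1) - q) * descPochhammer ℤ (g + 1), ?_, ?_, ?_⟩
    · refine (natDegree_add_le _ _).trans (max_le ?_ ?_)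
      · exact (natDegree_C_mul_le _ _).trans (hdeg.trans g.le_succ)
      · exact (natDegree_C_mul_le _ _).trans (descPochhammer_natDegree ℤ (g + 1)).le
    · intro n hn
      rcases Nat.lt_or_eq_of_le hn with hn | rfl
      · rw [eval_add, eval_mul, eval_mul, eval_C, eval_C, hval n (by omega), descPochhammer_eval_eq_descFactorial,
          Nat.descFactorial_eq_zero_iff_lt.mpr hn, Nat.factorial_succ]
        push_cast; ring
      · rw [eval_add, eval_mul, eval_mul, eval_C, eval_C, descPochhammer_eval_eq_descFactorial,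
          Nat.descFactorial_self, hq, Nat.factorial_succ]
        push_cast; ring
    · intro n
      rw [eval_add, eval_mul, eval_mul, eval_C, eval_C, descPochhammer_eval_eq_descFactorial]
      refine dvd_add ?_ (Dvd.dvd.mul_left (Int.natCast_dvd_natCast.mpr (Nat.factorial_dvd_descFactorial n (g + 1))) _)
      rw [Nat.factorial_succ]
      push_cast
      exact mul_dvd_mul_left _ (hdvd n)

/-- A polynomial of degree at most `g` with integral values at `g + 1` consecutive integers has, after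
multiplication by `g!`, integral coefficients. -/
theorem coeff_integral (P : ℚ[X]) (g : ℕ) (hP : P.natDegree ≤ g) (a : ℤ)
    (h : ∀ n : ℕ, n ≤ g → ∃ z : ℤ, P.eval ((a : ℚ) + n) = z) (j : ℕ) :
    ∃ z : ℤ, (g.factorial : ℚ) * P.coeff j = z := by
  choose! f hf using h
  obtain ⟨T, hdeg, hval, -⟩ := exists_int_interp f g
  let T' : ℚ[X] := (T.comp (X - C a)).map (Int.castRingHom ℚ)
  have hT' : T'.natDegree ≤ g := natDegree_map_le.trans
    (natDegree_comp_le.trans (by rw [natDegree_X_sub_C, mul_one]; exact hdeg))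
  have he : C (g.factorial : ℚ) * P = T' := by
    refine eq_of_natDegree_lt_card_of_eval_eq _ _ (f := fun i : Fin (g + 1) => (a : ℚ) + (i : ℕ))
      (fun i i' hi => Fin.ext (by simpa using hi)) (fun i => ?_) ?_
    · have hn : (i : ℕ) ≤ g := Nat.lt_succ_iff.mp i.2
      rw [eval_mul, eval_C, hf _ hn, eval_map,
        show (a : ℚ) + (i : ℕ) = Int.castRingHom ℚ (a + (i : ℕ)) by simp, eval₂_at_apply, eval_comp,
        eval_sub, eval_X, eval_C, add_sub_cancel_left, hval _ hn]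
      simp
    · rw [Fintype.card_fin]
      exact Nat.lt_succ_of_le (max_le ((natDegree_C_mul_le _ _).trans hP) hT')
  exact ⟨(T.comp (X - C a)).coeff j, by rw [← coeff_C_mul, he, coeff_map]; rfl⟩

theorem scaled_integral (Q : ℚ[X]) (g : ℕ) (hQ : Q.natDegree ≤ g) (u v : ℚ) (huv : u < v)
    (h : ∀ (a : ℤ) (b : ℕ), 0 < b → u < (a : ℚ) / b → (a : ℚ) / b < v →
      ∃ z : ℤ, (b : ℚ) ^ (2 * g) * Q.eval ((a : ℚ) / b) = z) (j : ℕ) :
    ∃ z : ℤ, (g.factorial : ℚ) * Q.coeff j = z := by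
  rcases Nat.lt_or_ge g j with hj | hj
  · exact ⟨0, by rw [coeff_eq_zero_of_natDegree_lt (hQ.trans_lt hj)]; simp⟩
  obtain ⟨B, hB⟩ := exists_nat_gt (((g : ℚ) + 1) / (v - u))
  have hB0 : 0 < B := by
    have : (0 : ℚ) < B := lt_of_le_of_lt (div_nonneg (by positivity) (by linarith)) hB
    exact_mod_cast this
  have key : ∀ b : ℕ, B ≤ b → ∃ z : ℤ, (b : ℚ) ^ (2 * g - j) * ((g.factorial : ℚ) * Q.coeff j) = z := by
    intro b hb
    have hb0 : 0 < b := hB0.trans_le hb
    have hbQ : (0 : ℚ) < b := by exact_mod_cast hb0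
    have hbb : ((g : ℚ) + 1) < b * (v - u) := by
      have := (div_lt_iff₀ (by linarith)).mp (hB.trans_le (by exact_mod_cast hb : (B : ℚ) ≤ b))
      linarith
    let P : ℚ[X] := C ((b : ℚ) ^ (2 * g)) * Q.comp (C (b : ℚ)⁻¹ * X)
    have hP : P.natDegree ≤ g := (natDegree_C_mul_le _ _).trans (natDegree_comp_le.trans
      (le_trans (Nat.mul_le_mul hQ ((natDegree_C_mul_le ((b : ℚ)⁻¹) X).trans natDegree_X_le)) (by simp)))
    obtain ⟨z, hz⟩ := coeff_integral P g hP (⌊u * b⌋ + 1) (fun n hn => by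
      have hn' : (n : ℚ) ≤ g := by exact_mod_cast hn
      have h1 := Int.floor_le (u * b)
      have h2 := Int.lt_floor_add_one (u * b)
      obtain ⟨z, hz⟩ := h (⌊u * b⌋ + 1 + n) b hb0
        (by rw [lt_div_iff₀ hbQ]; push_cast; linarith [(Nat.cast_nonneg n : (0 : ℚ) ≤ n)])
        (by rw [div_lt_iff₀ hbQ]; push_cast; linarith)
      refine ⟨z, ?_⟩
      rw [← hz, eval_mul, eval_C, eval_comp, eval_mul, eval_C, eval_X, div_eq_inv_mul]
      push_cast
      ring_nf) j
    refine ⟨z, ?_⟩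
    rw [← hz, coeff_C_mul, comp_C_mul_X_coeff, inv_pow, pow_sub₀ _ hbQ.ne' (by omega)]
    ring
  obtain ⟨z₁, hz₁⟩ := key B le_rfl
  obtain ⟨z₂, hz₂⟩ := key (B + 1) B.le_succ
  obtain ⟨x, y, hxy⟩ : IsCoprime ((B : ℤ) ^ (2 * g - j)) (((B : ℤ) + 1) ^ (2 * g - j)) :=
    IsCoprime.pow (show IsCoprime (B : ℤ) ((B : ℤ) + 1) from ⟨-1, 1, by ring⟩)
  refine ⟨x * z₁ + y * z₂, ?_⟩
  have hxy' : (x : ℚ) * (B : ℚ) ^ (2 * g - j) + y * ((B : ℚ) + 1) ^ (2 * g - j) = 1 := by exact_mod_cast hxy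
  push_cast at hz₂ ⊢
  rw [← hz₁, ← hz₂]
  linear_combination (-((g.factorial : ℚ) * Q.coeff j)) * hxy'

end IntPolyLib
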